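import Cfsg.Agent.OddOrderLocal.RankBasics
import Cfsg.Agent.FastGrp
import Cfsg.Agent.Prune
set_option linter.all false
prune_inst 0x7f00000000000000000000000000000000000000000000000000000000000000000000000000000000000000000000000000000000000000000000000000000000000000000000000000000000000000003fffffffffffffffffffffffffffbeffbdffffffff
open scoped Cfsg.Agent.FastGrp

/-!
# Nonabelian groups of order `p ^ 3` (helper602)

* `exists_conj_mul` : `e ∉ Z(G)`, `z ∈ Z(G)`: `z e` is conjugate to `e`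
* `center_le_of_sq` : a subgroup of order `p ^ 2` contains the centre
* `exists_conj_pow` : noncentral elements `a, b` of a subgroup of order `p ^ 2`: some conjugate of `a ^ k` is `b`
-/

set_option autoImplicit false

namespace Cfsg.Agent.H602.Der.PCube

open Subgroup
open scoped commutatorElement

variable {G : Type*} [Group G] {p : ℕ} [hpf : Fact p.Prime]

theorem card_center (hG : Nat.card G = p ^ 3) (hn : ¬ ∀ a b : G, a * b = b * a) : Nat.card (center G) = p := by
  have hp := hpf.out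
  have hfin : Finite G := Nat.finite_of_card_ne_zero (by rw [hG]; exact pow_ne_zero _ hp.ne_zero)
  obtain ⟨k, hk0, hk⟩ := IsPGroup.card_center_eq_prime_pow hG (by norm_num)
  have h1 : Nat.card (G ⧸ center G) * p ^ k = p ^ 3 := by
    rw [← hk, ← hG]
    exact (card_eq_card_quotient_mul_card_subgroup (center G)).symm
  have h2 : p ^ k ∣ p ^ 3 := ⟨_, by rw [← h1, mul_comm]⟩
  have h3 : k ≤ 3 := (Nat.pow_dvd_pow_iff_le_right hp.one_lt).1 h2
  have h4 : ∀ j, j + k = 3 → Nat.card (G ⧸ center G) = p ^ j := by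
    intro j hj
    have h5 : p ^ j * p ^ k = p ^ 3 := by rw [← pow_add, hj]
    exact Nat.eq_of_mul_eq_mul_right (pow_pos hp.pos k) (h1.trans h5.symm)
  have key : IsCyclic (G ⧸ center G) → False := by
    intro hcyc
    have h5 := MonoidHom.isMulCommutative_of_isCyclic_of_ker_le_center (QuotientGroup.mk' (center G))
      (by rw [QuotientGroup.ker_mk'])
    exact hn h5.is_comm.comm
  interval_cases k
  · rw [hk, pow_one]
  · exfalso
    exact key (isCyclic_of_prime_card (p := p) (by rw [h4 1 (by norm_num), pow_one]))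
  · exfalso
    have h5 : Nat.card (G ⧸ center G) = 1 := by rw [h4 0 (by norm_num), pow_zero]
    have h6 : Subsingleton (G ⧸ center G) := (Nat.card_eq_one_iff_unique.1 h5).1
    exact key inferInstance

theorem comm_mem (hG : Nat.card G = p ^ 3) (a b : G) : ⁅a, b⁆ ∈ center G :=
  Cfsg.Agent.OddOrderLocal.RankBasics.commutator_le_center_of_card_eq_prime_cube hG
    (commutator_mem_commutator (mem_top _) (mem_top _))

/-- `g ↦ [g, e]` -/
theorem exists_conj_mul (hG : Nat.card G = p ^ 3) (hn : ¬ ∀ a b : G, a * b = b * a) {e z : G} (he : e ∉ center G)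
    (hz : z ∈ center G) : ∃ g : G, g * e * g⁻¹ = z * e := by
  have hp := hpf.out
  have hfin : Finite G := Nat.finite_of_card_ne_zero (by rw [hG]; exact pow_ne_zero _ hp.ne_zero)
  let f : G →* center G :=
    { toFun := fun g => ⟨g * e * g⁻¹ * e⁻¹, by
        have h1 := comm_mem hG g e
        rwa [commutatorElement_def] at h1⟩
      map_one' := Subtype.ext (by simp)
      map_mul' := fun g h => by
        apply Subtype.ext
        change g * h * e * (g * h)⁻¹ * e⁻¹ = (g * e * g⁻¹ * e⁻¹) * (h * e * h⁻¹ * e⁻¹)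
        have h1 : h * e * h⁻¹ * e⁻¹ ∈ center G := by
          have h1 := comm_mem hG h e
          rwa [commutatorElement_def] at h1
        rw [mem_center_iff] at h1
        have h2 := h1 (g * e * g⁻¹ * e⁻¹)
        rw [h2]
        have h3 := h1 g
        calc g * h * e * (g * h)⁻¹ * e⁻¹ = (g * (h * e * h⁻¹ * e⁻¹)) * (e * g⁻¹ * e⁻¹) := by group
          _ = ((h * e * h⁻¹ * e⁻¹) * g) * (e * g⁻¹ * e⁻¹) := by rw [h3]
          _ = _ := by group }
  have hr : f.range = ⊤ := by
    have hc := card_center hG hn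
    have h1 : Nat.card f.range ∣ p := by
      rw [← hc]
      exact card_subgroup_dvd_card _
    rcases (Nat.dvd_prime hp).1 h1 with h2 | h2
    · exfalso
      apply he
      rw [mem_center_iff]
      intro g
      have h3 : f.range = ⊥ := card_eq_one.1 h2
      have h4 : f g = 1 := by
        have : f g ∈ f.range := ⟨g, rfl⟩
        rw [h3, mem_bot] at this
        exact this
      have h5 : g * e * g⁻¹ * e⁻¹ = 1 := congrArg Subtype.val h4
      calc g * e = (g * e * g⁻¹ * e⁻¹) * (e * g) := by group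
        _ = _ := by rw [h5, one_mul]
    · exact eq_top_of_card_eq _ (by rw [h2, hc])
  obtain ⟨g, hg⟩ : (⟨z, hz⟩ : center G) ∈ f.range := by rw [hr]; trivial
  have h1 : g * e * g⁻¹ * e⁻¹ = z := congrArg Subtype.val hg
  exact ⟨g, by rw [← h1]; group⟩

theorem comm_of_sq {E : Subgroup G} (hE : Nat.card E = p ^ 2) {a b : G} (ha : a ∈ E) (hb : b ∈ E) : a * b = b * a := by
  have h1 := (IsPGroup.isMulCommutative_of_card_eq_prime_sq (p := p) hE).is_comm.comm ⟨a, ha⟩ ⟨b, hb⟩
  exact congrArg Subtype.val h1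

/-- a subgroup of order `p ^ 2` contains the centre -/
theorem center_le_of_sq (hG : Nat.card G = p ^ 3) (hn : ¬ ∀ a b : G, a * b = b * a) {E : Subgroup G}
    (hE : Nat.card E = p ^ 2) : center G ≤ E := by
  have hp := hpf.out
  have hfin : Finite G := Nat.finite_of_card_ne_zero (by rw [hG]; exact pow_ne_zero _ hp.ne_zero)
  by_contra hle
  obtain ⟨z, hz, hzE⟩ := SetLike.not_le_iff_exists.1 hle
  -- `E` and `z` generate `G`
  apply hn
  have h1 : E < E ⊔ center G := lt_of_le_of_ne le_sup_left fun h => hzE (h ▸ (le_sup_right : center G ≤ _) hz)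
  have h2 : Nat.card E < Nat.card ↥(E ⊔ center G) := by
    refine lt_of_le_of_ne (card_le_of_le h1.le) fun h => h1.ne ?_
    exact eq_of_le_of_card_ge h1.le h.ge
  have h3 : Nat.card ↥(E ⊔ center G) ∣ p ^ 3 := by
    rw [← hG]
    exact card_subgroup_dvd_card _
  obtain ⟨k, hk, hkc⟩ := (Nat.dvd_prime_pow hp).1 h3
  have h4 : E ⊔ center G = ⊤ := by
    apply eq_top_of_card_eq
    rw [hkc, hG]
    rw [hE, hkc] at h2
    have h5 : 2 < k := (Nat.pow_lt_pow_iff_right hp.one_lt).1 h2
    have h6 : k = 3 := by omega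
    rw [h6]
  have key : ∀ a : G, ∃ x ∈ E, ∃ y ∈ center G, x * y = a := by
    intro a
    have h5 : a ∈ E ⊔ center G := by rw [h4]; trivial
    rw [Subgroup.mem_sup_of_normal_right] at h5
    exact h5
  intro a b
  obtain ⟨x, hx, y, hy, rfl⟩ := key a
  obtain ⟨x', hx', y', hy', rfl⟩ := key b
  rw [mem_center_iff] at hy hy'
  have h5 := comm_of_sq hE hx hx'
  calc x * y * (x' * y') = x * (y * (x' * y')) := by group
    _ = x * ((x' * y') * y) := by rw [hy]
    _ = (x * x') * y' * y := by group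
    _ = (x' * x) * y' * y := by rw [h5]
    _ = x' * (x * y') * y := by group
    _ = x' * (y' * x) * y := by rw [hy' x]
    _ = _ := by group

/-- **noncentral elements of a subgroup of order `p ^ 2`** -/
theorem exists_conj_pow (hG : Nat.card G = p ^ 3) (hn : ¬ ∀ a b : G, a * b = b * a) {E : Subgroup G}
    (hE : Nat.card E = p ^ 2) {a b : G} (ha : a ∈ E) (hb : b ∈ E) (haZ : a ∉ center G) (hbZ : b ∉ center G) :
    ∃ (k : ℤ) (g : G), g * a ^ k * g⁻¹ = b := by
  have hp := hpf.out
  have hfin : Finite G := Nat.finite_of_card_ne_zero (by rw [hG]; exact pow_ne_zero _ hp.ne_zero)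
  have hZE := center_le_of_sq hG hn hE
  have hZ := card_center hG hn
  have h1 : zpowers a ⊔ center G = E := by
    have hle : zpowers a ⊔ center G ≤ E := sup_le (zpowers_le.2 ha) hZE
    apply eq_of_le_of_card_ge hle
    have h2 : center G < zpowers a ⊔ center G :=
      lt_of_le_of_ne le_sup_right fun h => haZ (h ▸ (le_sup_left : zpowers a ≤ _) (mem_zpowers a))
    have h3 : Nat.card (center G) < Nat.card ↥(zpowers a ⊔ center G) := by
      refine lt_of_le_of_ne (card_le_of_le h2.le) fun h => h2.ne ?_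
      exact eq_of_le_of_card_ge h2.le h.ge
    have h4 : Nat.card ↥(zpowers a ⊔ center G) ∣ p ^ 2 := by
      rw [← hE]
      exact card_dvd_of_le hle
    obtain ⟨k, hk, hkc⟩ := (Nat.dvd_prime_pow hp).1 h4
    rw [hkc, hE]
    rw [hZ, hkc] at h3
    have h5 : 1 < k := (Nat.pow_lt_pow_iff_right hp.one_lt).1 (by rwa [pow_one])
    have h6 : k = 2 := by omega
    rw [h6]
  have h2 : b ∈ zpowers a ⊔ center G := by rw [h1]; exact hb
  rw [Subgroup.mem_sup_of_normal_right] at h2
  obtain ⟨x, hx, z, hz, rfl⟩ := h2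
  obtain ⟨k, rfl⟩ := mem_zpowers_iff.1 hx
  have h3 : a ^ k ∉ center G := fun h => hbZ (mul_mem h hz)
  obtain ⟨g, hg⟩ := exists_conj_mul hG hn h3 hz
  refine ⟨k, g, hg.trans ?_⟩
  exact ((mem_center_iff.1 hz) (a ^ k)).symm

end Cfsg.Agent.H602.Der.PCube

namespace Cfsg.Agent.H602.Der.PCube

open Subgroup

section cls

variable {T : Type*} [Group T]

theorem pow_comm_pow {g h z : T} (hh : h * g = g * h * z) (zg : z * g = g * z) (zh : z * h = h * z) (i j : ℕ) :
    h ^ j * g ^ i = g ^ i * h ^ j * z ^ (i * j) := by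
  have zg' : Commute z g := zg
  have zh' : Commute z h := zh
  have h1 : ∀ j : ℕ, h ^ j * g = g * h ^ j * z ^ j := by
    intro j
    induction j with
    | zero => simp
    | succ j ih =>
      calc h ^ (j + 1) * g = h * (h ^ j * g) := by rw [pow_succ']; group
        _ = (h * g) * h ^ j * z ^ j := by rw [ih]; group
        _ = g * h * (z * h ^ j) * z ^ j := by rw [hh]; group
        _ = g * h * (h ^ j * z) * z ^ j := by rw [(zh'.pow_right j).eq]
        _ = _ := by rw [pow_succ' h, pow_succ' z]; group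
  induction i with
  | zero => simp
  | succ i ih =>
    calc h ^ j * g ^ (i + 1) = (h ^ j * g ^ i) * g := by rw [pow_succ]; group
      _ = g ^ i * h ^ j * (z ^ (i * j) * g) := by rw [ih]; group
      _ = g ^ i * (h ^ j * g) * z ^ (i * j) := by rw [(zg'.pow_left _).eq]; group
      _ = g ^ i * (g * h ^ j * z ^ j) * z ^ (i * j) := by rw [h1]
      _ = g ^ (i + 1) * h ^ j * (z ^ j * z ^ (i * j)) := by rw [pow_succ]; group
      _ = _ := by rw [← pow_add]; congr 2; ring

/-- `0 + 1 + … + (n - 1)` -/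
def tri : ℕ → ℕ
  | 0 => 0
  | n + 1 => tri n + n

theorem mul_pow_tri {g h z : T} (hh : h * g = g * h * z) (zg : z * g = g * z) (zh : z * h = h * z) (n : ℕ) :
    (g * h) ^ n = g ^ n * h ^ n * z ^ tri n := by
  have zg' : Commute z g := zg
  have zh' : Commute z h := zh
  induction n with
  | zero => simp [tri]
  | succ n ih =>
    have h1 : h ^ n * g = g * h ^ n * z ^ n := by
      have := pow_comm_pow hh zg zh 1 n
      simpa using this
    calc (g * h) ^ (n + 1) = (g * h) ^ n * (g * h) := pow_succ _ _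
      _ = g ^ n * h ^ n * (z ^ tri n * (g * h)) := by rw [ih]; group
      _ = g ^ n * h ^ n * ((g * h) * z ^ tri n) := by rw [((zg'.mul_right zh').pow_left _).eq]
      _ = g ^ n * (h ^ n * g) * h * z ^ tri n := by group
      _ = g ^ n * (g * h ^ n * z ^ n) * h * z ^ tri n := by rw [h1]
      _ = g ^ n * g * h ^ n * (z ^ n * h) * z ^ tri n := by group
      _ = g ^ n * g * h ^ n * (h * z ^ n) * z ^ tri n := by rw [(zh'.pow_left n).eq]
      _ = (g ^ n * g) * (h ^ n * h) * (z ^ tri n * z ^ n) := by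
        have : z ^ n * z ^ tri n = z ^ tri n * z ^ n := (Commute.refl z).pow_pow n _
        rw [← this]; group
      _ = _ := by rw [← pow_succ, ← pow_succ, ← pow_add]; rfl

/-- elements `u`, `v` of order `5` whose commutator is central generate a 5-group -/
theorem exists_sub_five {u v c : T} (hu : u ^ 5 = 1) (hv : v ^ 5 = 1) (hc : c ^ 5 = 1) (huc : u * c = c * u)
    (hvc : v * c = c * v) (h : u * v = c * (v * u)) :
    ∃ H : Subgroup T, IsPGroup 5 H ∧ u ∈ H ∧ v ∈ H ∧ c ∈ H ∧ ∀ g ∈ H, g * c = c * g := by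
  have uc : Commute u c := huc
  have vc : Commute v c := hvc
  have hh : u * v = v * u * c := by
    rw [h]
    exact ((vc.mul_left uc).eq).symm
  have e5 : ∀ i j k : ℕ, (v ^ i * u ^ j * c ^ k) ^ 5 = 1 := by
    intro i j k
    have h1 : (u ^ j * c ^ k) * v ^ i = v ^ i * (u ^ j * c ^ k) * c ^ (i * j) := by
      have h2 := pow_comm_pow hh vc.symm.eq uc.symm.eq i j
      calc (u ^ j * c ^ k) * v ^ i = u ^ j * (c ^ k * v ^ i) := by group
        _ = u ^ j * (v ^ i * c ^ k) := by rw [(vc.symm.pow_pow k i).eq]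
        _ = (u ^ j * v ^ i) * c ^ k := by group
        _ = v ^ i * u ^ j * (c ^ (i * j) * c ^ k) := by rw [h2]; group
        _ = v ^ i * u ^ j * (c ^ k * c ^ (i * j)) := by rw [((Commute.refl c).pow_pow (i * j) k).eq]
        _ = _ := by group
    have h3 := mul_pow_tri (n := 5) h1 ((vc.symm.pow_pow (i * j) i).eq)
      (((uc.symm.pow_pow (i * j) j).mul_right ((Commute.refl c).pow_pow (i * j) k)).eq)
    rw [mul_assoc, h3, (uc.pow_pow j k).mul_pow, ← pow_mul, ← pow_mul, ← pow_mul, ← pow_mul, mul_comm i 5, mul_comm j 5,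
      mul_comm k 5, pow_mul v, pow_mul u, pow_mul c, hu, hv, hc]
    have h4 : tri 5 = 5 * 2 := rfl
    rw [h4, show i * j * (5 * 2) = 5 * (i * j * 2) by ring, pow_mul c, hc]
    simp
  have hm : ∀ i j k i' j' k' : ℕ, (v ^ i * u ^ j * c ^ k) * (v ^ i' * u ^ j' * c ^ k') =
      v ^ (i + i') * u ^ (j + j') * c ^ (i' * j + k + k') := by
    intro i j k i' j' k'
    have h2 := pow_comm_pow hh vc.symm.eq uc.symm.eq i' j
    calc (v ^ i * u ^ j * c ^ k) * (v ^ i' * u ^ j' * c ^ k') = v ^ i * u ^ j * (c ^ k * v ^ i') * u ^ j' * c ^ k' := by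
          group
      _ = v ^ i * u ^ j * (v ^ i' * c ^ k) * u ^ j' * c ^ k' := by rw [(vc.symm.pow_pow k i').eq]
      _ = v ^ i * (u ^ j * v ^ i') * c ^ k * u ^ j' * c ^ k' := by group
      _ = v ^ i * (v ^ i' * u ^ j * c ^ (i' * j)) * c ^ k * u ^ j' * c ^ k' := by rw [h2]
      _ = v ^ i * v ^ i' * u ^ j * (c ^ (i' * j) * c ^ k * u ^ j') * c ^ k' := by group
      _ = v ^ i * v ^ i' * u ^ j * (u ^ j' * (c ^ (i' * j) * c ^ k)) * c ^ k' := by
        rw [((uc.symm.pow_pow (i' * j) j').mul_left (uc.symm.pow_pow k j')).eq]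
      _ = _ := by rw [pow_add v, pow_add u, pow_add c, pow_add c]; group
  let H : Subgroup T :=
    { carrier := {g | ∃ i j k : ℕ, v ^ i * u ^ j * c ^ k = g}
      one_mem' := ⟨0, 0, 0, by simp⟩
      mul_mem' := by
        rintro _ _ ⟨i, j, k, rfl⟩ ⟨i', j', k', rfl⟩
        exact ⟨_, _, _, (hm i j k i' j' k').symm⟩
      inv_mem' := by
        rintro _ ⟨i, j, k, rfl⟩
        have h1 : (v ^ i * u ^ j * c ^ k)⁻¹ = (v ^ i * u ^ j * c ^ k) ^ 4 := by
          rw [inv_eq_iff_mul_eq_one, ← pow_succ', e5]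
        rw [h1]
        have h2 : ∀ n : ℕ, ∃ i' j' k' : ℕ, v ^ i' * u ^ j' * c ^ k' = (v ^ i * u ^ j * c ^ k) ^ n := by
          intro n
          induction n with
          | zero => exact ⟨0, 0, 0, by simp⟩
          | succ n ih =>
            obtain ⟨i', j', k', hi⟩ := ih
            rw [pow_succ, ← hi]
            exact ⟨_, _, _, (hm i' j' k' i j k).symm⟩
        exact h2 4 }
  refine ⟨H, ?_, ⟨0, 1, 0, by simp⟩, ⟨1, 0, 0, by simp⟩, ⟨0, 0, 1, by simp⟩, ?_⟩
  · rintro ⟨_, i, j, k, rfl⟩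
    exact ⟨1, Subtype.ext (by rw [pow_one]; exact e5 i j k)⟩
  · rintro _ ⟨i, j, k, rfl⟩
    exact (((vc.pow_left i).mul_left (uc.pow_left j)).mul_left ((Commute.refl c).pow_left k)).eq

end cls

section sub

variable {T : Type*} [Group T] [Finite T] {p : ℕ} [hpf : Fact p.Prime]

/-- **noncentral elements of a subgroup of order `p ^ 2` of a nonabelian group of order `p ^ 3`** -/
theorem card_cent_eq {P E : Subgroup T} (hP : Nat.card P = p ^ 3) (hna : ¬ ∀ a ∈ P, ∀ b ∈ P, a * b = b * a)
    (hEP : E ≤ P) (hE : Nat.card E = p ^ 2) {a b : T} (ha : a ∈ E) (hb : b ∈ E) (ha' : ¬ ∀ g ∈ P, g * a = a * g)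
    (hb' : ¬ ∀ g ∈ P, g * b = b * g) :
    Nat.card (centralizer ({a} : Set T)) = Nat.card (centralizer ({b} : Set T)) := by
  have hn : ¬ ∀ a b : P, a * b = b * a := fun h => hna fun a ha b hb => congrArg Subtype.val (h ⟨a, ha⟩ ⟨b, hb⟩)
  have hE' : Nat.card (E.subgroupOf P) = p ^ 2 := by
    rw [Nat.card_congr (Subgroup.subgroupOfEquivOfLe hEP).toEquiv, hE]
  have key : ∀ {a b : T}, a ∈ E → b ∈ E → (¬ ∀ g ∈ P, g * a = a * g) → (¬ ∀ g ∈ P, g * b = b * g) →
      Nat.card (centralizer ({a} : Set T)) ≤ Nat.card (centralizer ({b} : Set T)) := by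
    intro a b ha hb ha' hb'
    have haZ : (⟨a, hEP ha⟩ : P) ∉ center P := by
      rw [mem_center_iff]
      exact fun h => ha' fun g hg => congrArg Subtype.val (h ⟨g, hg⟩)
    have hbZ : (⟨b, hEP hb⟩ : P) ∉ center P := by
      rw [mem_center_iff]
      exact fun h => hb' fun g hg => congrArg Subtype.val (h ⟨g, hg⟩)
    obtain ⟨k, g, hg⟩ := exists_conj_pow hP hn hE' (a := ⟨a, hEP ha⟩) (b := ⟨b, hEP hb⟩) ha hb haZ hbZ
    have h1 : (g : T) * a ^ k * (g : T)⁻¹ = b := congrArg Subtype.val hg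
    have h2 : (centralizer ({a} : Set T)).map (MulAut.conj (g : T)).toMonoidHom ≤ centralizer ({b} : Set T) := by
      rintro _ ⟨x, hx, rfl⟩
      rw [SetLike.mem_coe, mem_centralizer_singleton_iff] at hx
      rw [mem_centralizer_singleton_iff, ← h1]
      have h3 : x * a ^ k = a ^ k * x := (show Commute x a from hx).zpow_right k
      change ((g : T) * x * (g : T)⁻¹) * ((g : T) * a ^ k * (g : T)⁻¹) =
        ((g : T) * a ^ k * (g : T)⁻¹) * ((g : T) * x * (g : T)⁻¹)
      calc ((g : T) * x * (g : T)⁻¹) * ((g : T) * a ^ k * (g : T)⁻¹) = (g : T) * (x * a ^ k) * (g : T)⁻¹ := by group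
        _ = (g : T) * (a ^ k * x) * (g : T)⁻¹ := by rw [h3]
        _ = _ := by group
    have h3 := Subgroup.card_le_of_le h2
    rwa [Subgroup.card_map_of_injective (MulAut.conj (g : T)).injective] at h3
  exact le_antisymm (key ha hb ha' hb') (key hb ha hb' ha')

end sub

end Cfsg.Agent.H602.Der.PCube

private theorem dce_0931583a3c30 : _root_.True := by
  try have : _root_.True := by simp only [_root_.Cfsg.Agent.H602.Der.PCube.tri.eq_def]
  try have : _root_.True := by simp only [_root_.Cfsg.Agent.H602.Der.PCube.tri.eq_2]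
  try have : _root_.True := by simp only [_root_.Cfsg.Agent.H602.Der.PCube.tri.eq_1]
  exact _root_.True.intro
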